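import Groth.Agent.Lib.KernelKL22.Basic
import Groth.Agent.Lib.KernelKL22.Poincare
import Groth.Agent.Lib.Index22.Descend
import Groth.Agent.Lib.Index22.Complement
import Groth.Agent.Lib.DiagGL.Chars
import Groth.Agent.Lib.CubeField.AmpleExists
import Groth.Agent.Lib.Ample18.Ample

/-!
# The dual is at least as large as the variety
-/

universe u

open CategoryTheory Limits MonoidalCategory CartesianMonoidalCategory AlgebraicGeometry TopologicalSpace Opposite
open scoped MonObj GrpObj

set_option linter.style.haveILetI false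
set_option linter.unusedSectionVars false
set_option maxHeartbeats 1000000
set_option backward.isDefEq.respectTransparency false

noncomputable section

namespace Groth.Agent.Poincare22

open Groth.Agent.AbDual21 Groth.Agent.PicDesc21 Groth.Agent.CubeField Groth.Agent.KernelKL22
open scoped CategoryTheory.Obj

noncomputable local instance instLawPD (Y : Scheme.{u}) : PicGrp.Law Y := M2.law Y

variable {k : Type u} [Field k] {A At : Over (Spec (CommRingCat.of k))} [GrpObj A] [GrpObj At]
  [IsProper A.hom] [GeometricallyIntegral A.hom] [IsProper At.hom] [GeometricallyIntegral At.hom]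
  {φ : ∀ T : Over (Spec (CommRingCat.of k)), PicF.Cl (PicF.XT A.hom T) → (T ⟶ At)}
  (hφ : AbDual.IsDualAV Scheme.fppfPrecoverage A At φ)

include hφ

/-- The map attached to an ample module has finite geometric fibres. -/
theorem dim_le : topologicalKrullDim A.left ≤ topologicalKrullDim At.left := by
  haveI : Smooth A.hom :=
    @smooth_of_grpObj k _ _ A.hom _ (show GrpObj (Over.mk A.hom) from ‹GrpObj A›) _
  haveI := AbRigid.geometricallyReduced_of_smooth A.hom
  haveI : GeometricallyConnected A.hom := ⟨fun Ω _ y X' fst snd h => by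
    haveI := GeometricallyIntegral.geometrically_isIntegral (f := A.hom) y fst snd h
    infer_instance⟩
  haveI := isCommMonObj_of_isProper_of_geometricallyIntegral A
  let Ω := AlgebraicClosure k
  let σ := Index22.φbar k
  obtain ⟨L, hLa⟩ := exists_isAmple A
  have hL := hLa.1
  obtain ⟨L', hL', e⟩ := M2.exists_inverse hL
  let N : (PicF.XT A.hom A).Modules := CohB1.tensorMod (CohB1.tensorMod ((Scheme.Modules.pullback μ[A].left).obj L)
      ((Scheme.Modules.pullback (fst A A).left).obj L')) ((Scheme.Modules.pullback (snd A A).left).obj L')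
  have hN : PicF.IsInvertible N := M2.isInvertible_tensor (M2.isInvertible_tensor
    (PicLoc.isInvertible_pullback _ hL) (PicLoc.isInvertible_pullback _ hL')) (PicLoc.isInvertible_pullback _ hL')
  have hs : AgPol.IsLambdaSheaf (μ[A].left : PicF.XT A.hom A ⟶ A.left) (fst A A).left (snd A A).left L N := by
    refine (PicGrp.cl_eq_cl_iff _ _).1 ?_
    have hinv : ∀ {V : Over (Spec (CommRingCat.of k))} (x : V ⟶ A), P L hL x * P L' hL' x = 1 := fun x => by
      apply Subtype.ext
      simp only [P, PicGrp.mul_val, PicGrp.cls_val, PicGrp.mulCl_cl, PicGrp.one_val]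
      exact (M2.cl_eq_of_iso ((M2.pullTensorIso _ L L').symm ≪≫ (Scheme.Modules.pullback _).mapIso e.some)).trans
        (M2.cl_eq_of_iso (PicLoc.pullbackStructureIso _))
    have h : (P L hL μ[A] * P L' hL' (fst A A) * P L' hL' (snd A A)) * P L hL (fst A A) * P L hL (snd A A) =
        P L hL μ[A] := by
      have h1 := hinv (fst A A); have h2 := hinv (snd A A)
      calc _ = P L hL μ[A] * (P L hL (fst A A) * P L' hL' (fst A A)) * (P L hL (snd A A) * P L' hL' (snd A A)) := by
            simp only [mul_assoc, mul_comm, mul_left_comm]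
        _ = _ := by rw [h1, h2, _root_.mul_one, _root_.mul_one]
    have h' := congrArg Subtype.val h
    simp only [P, PicGrp.mul_val, PicGrp.cls_val, PicGrp.mulCl_cl] at h'
    exact h'
  have hN0 := picZero_mum hL hN hs
  let lam : A ⟶ At := φ A (PicF.cl N)
  let lamb : Index22.bar A ⟶ Index22.bar At := (Over.pullback σ).map lam
  haveI : IsProper (Index22.bar A).hom := inferInstance
  have hAmp : CohB1.IsAmple ((Scheme.Modules.pullback (Index22.prj A)).obj L) := by
    haveI : IsAffineHom (Index22.prj A) := MorphismProperty.pullback_fst _ _ inferInstance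
    exact Amp.isAmple_pullback_of_isAffineHom _ hLa
  have hfix := AlgEquiv22.finite_fixing (A := Index22.bar A) hAmp
  set cK := PicGrp.cls _ hAmp.1 with hcK
  let V : Over (Spec (CommRingCat.of k)) := Over.mk σ
  let pt : (𝟙_ (Over (Spec (CommRingCat.of Ω))) ⟶ Index22.bar A) → (V ⟶ A) := fun a =>
    Over.homMk (a.left ≫ Index22.prj A) (by
      show (a.left ≫ pullback.fst A.hom σ) ≫ A.hom = σ
      rw [Category.assoc, pullback.condition, ← Category.assoc]
      exact (congrArg (· ≫ σ) (Over.w a)).trans (Category.id_comp _))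
  let w : A ⊗ V ⟶ (Over.map σ).obj (Index22.bar A) := Over.homMk (𝟙 _) (by
    show 𝟙 _ ≫ pullback.snd A.hom σ ≫ σ = pullback.fst A.hom σ ≫ A.hom
    rw [Category.id_comp, pullback.condition])
  have htr : ∀ a, AlgEquiv22.pb (𝟙 (Index22.bar A) * (toUnit (Index22.bar A) ≫ a)) cK =
      PicGrp.pullHom (A ◁ pt a).left (M2.pullMul _) (PicGrp.cls N hN) * P L hL (fst A V) := fun a => by
    have hm := mum_mul (hL := hL) (hN := hN) hs (pt a)
    have h1 : P L hL (snd A V ≫ pt a) = 1 := by
      rw [← pullHom_P]
      refine (congrArg _ (Subtype.ext ?_)).trans (map_one _)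
      exact isTrivialCl_spec_field ⟨_, rfl, PicLoc.isInvertible_pullback _ hL⟩
    rw [h1, _root_.mul_one] at hm
    rw [hm]
    set τ := 𝟙 (Index22.bar A) * (toUnit (Index22.bar A) ≫ a)
    have key : τ.left ≫ Index22.prj A = (fst A V * (snd A V ≫ pt a)).left := by
      have e1 : w ≫ DiagGL.fl σ A (𝟙 (Index22.bar A)) = fst A V := by
        apply Over.OverMorphism.ext
        simp [w, DiagGL.fl]
        rfl
      have e2 : w ≫ DiagGL.fl σ A (toUnit (Index22.bar A) ≫ a) = snd A V ≫ pt a := by
        apply Over.OverMorphism.ext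
        simp [w, DiagGL.fl, pt]
        rfl
      rw [← e1, ← e2, ← MonObj.comp_mul, ← DiagGL.fl_mul]
      simp [w, DiagGL.fl]
      rfl
    apply Subtype.ext
    rw [AlgEquiv22.pb, PicGrp.pullHom_apply_val]
    show PicF.pullCl τ.left (PicF.cl ((Scheme.Modules.pullback (Index22.prj A)).obj L)) = _
    rw [show PicF.cl ((Scheme.Modules.pullback (Index22.prj A)).obj L) = PicF.pullCl (Index22.prj A) (PicF.cl L) from
      (PicLoc.pullCl_cl _ _).symm, pullCl_pullCl, key, PicLoc.pullCl_cl]
    rfl
  haveI : IsFinite lamb.left := by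
    refine Index22.isFinite_of_finite_points lamb fun b => ?_
    rcases Set.eq_empty_or_nonempty {a | a ≫ lamb = b} with he | ⟨a₀, ha₀⟩
    · rw [he]; exact Set.finite_empty
    refine Set.Finite.of_finite_image (f := fun a => a * a₀⁻¹) (hfix.subset ?_) (fun x _ y _ h => mul_right_cancel h)
    rintro _ ⟨a, ha, rfl⟩
    have hpt : ∀ c : 𝟙_ (Over (Spec (CommRingCat.of Ω))) ⟶ Index22.bar A,
        (pt c ≫ lam).left = (c ≫ lamb).left ≫ Index22.prj At := fun c => by
      simp only [pt, lamb, Over.comp_left, Over.homMk_left, Category.assoc]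
      refine congrArg (c.left ≫ ·) ?_
      exact (pullback.lift_fst (f := At.hom) (g := σ) _ _ _).symm
    have heq : pt a ≫ lam = pt a₀ ≫ lam := by
      apply Over.OverMorphism.ext
      rw [hpt, hpt, show a ≫ lamb = b from ha, show a₀ ≫ lamb = b from ha₀]
    have hclass : mum N (pt a) = mum N (pt a₀) := by
      refine eq_of_phi hφ (picZero_whisker _ hN0) (picZero_whisker _ hN0) ?_ ?_
      · rw [phi_natural hφ _ hN0, phi_natural hφ _ hN0]
        exact heq
      · exact (isTrivialCl_spec_field (isInvertibleCl_pull _ (picZero_invertible (picZero_whisker _ hN0)))).trans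
          (isTrivialCl_spec_field (isInvertibleCl_pull _ (picZero_invertible (picZero_whisker _ hN0)))).symm
    have h2 : AlgEquiv22.pb (𝟙 (Index22.bar A) * (toUnit (Index22.bar A) ≫ a)) cK =
        AlgEquiv22.pb (𝟙 (Index22.bar A) * (toUnit (Index22.bar A) ≫ a₀)) cK := by
      rw [htr, htr]
      congr 1
      exact Subtype.ext hclass
    have hcomp : ∀ x y : 𝟙_ (Over (Spec (CommRingCat.of Ω))) ⟶ Index22.bar A,
        (𝟙 (Index22.bar A) * (toUnit (Index22.bar A) ≫ x)) ≫ (𝟙 (Index22.bar A) * (toUnit (Index22.bar A) ≫ y)) =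
          𝟙 (Index22.bar A) * (toUnit (Index22.bar A) ≫ (x * y)) := fun x y => by
      rw [MonObj.comp_mul, Category.comp_id, comp_toUnit_assoc, mul_assoc, ← MonObj.comp_mul]
    have hxy := congrArg (AlgEquiv22.pb (𝟙 (Index22.bar A) * (toUnit (Index22.bar A) ≫ a₀⁻¹))) h2
    rw [AlgEquiv22.pb_pb, AlgEquiv22.pb_pb, hcomp, hcomp, inv_mul_cancel, MonObj.comp_one, _root_.mul_one,
      AlgEquiv22.pb_id, mul_comm a₀⁻¹ a] at hxy
    exact hxy
  rw [← Index22.topologicalKrullDim_bar (A := A), ← Index22.topologicalKrullDim_bar (A := At)]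
  exact Index22.dim_le_of_isFinite lamb.left

end Groth.Agent.Poincare22
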