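import Groth.Agent.Lib.CohFound.PushFin
import Groth.Agent.Lib.CohFound.HHBridge
import Groth.Agent.Lib.CohFound.MV
import Groth.Agent.Lib.CurveCoh17.LES
import Groth.Agent.Lib.ModM1.Local

/-!
# Cohomology concentrated over an open
-/

universe u

open CategoryTheory CategoryTheory.Limits AlgebraicGeometry TopologicalSpace Opposite

set_option linter.style.haveILetI false
set_option linter.unusedSectionVars false
set_option maxHeartbeats 1000000
set_option backward.isDefEq.respectTransparency false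

noncomputable section

namespace Groth.Agent.Poincare22

open Groth.Agent.CohFound

section Top

variable {X Y : TopCat.{u}} {f : Y ⟶ X} (hf : Topology.IsOpenEmbedding f)

/-- Cohomology of a restriction, compatibly with endomorphisms. -/
theorem exists_hc_resEmb_commute (F : CohTop.Ab X) (n : ℕ) (W : Opens Y) :
    ∃ ε : Hc ((resEmb hf).obj F) n W ≃+ Hc F n (hf.isOpenMap.functor.obj W),
      ∀ (φ : F ⟶ F) x, ε (mp ((resEmb hf).map φ) n W x) = mp φ n _ (ε x) := by
  refine exists_addEquiv_commute_of_dimShift (resEmb hf) (hf.isOpenMap.functor.obj W) W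
    (fun F => AddEquiv.refl _) (fun φ s => rfl) (fun I hI m => ?_) (fun _ _ => True)
    (fun m F _ => ⟨shortExact_resEmb hf (injSC_shortExact F), trivial⟩) n F trivial
  have := isFlasque_of_injective I
  have := isFlasque_resEmb hf I
  exact subsingleton_hc_of_isFlasque _ m W

/-- Restriction is bijective when the rest is acyclic. -/
theorem rs_bijective {T : TopCat.{u}} {G : CohTop.Ab T} {U V : Opens T}
    (hV : ∀ n, Subsingleton (Hc G n V)) (hI : ∀ n, Subsingleton (Hc G n (U ⊓ V))) (n : ℕ) :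
    Function.Bijective (rs G n (le_sup_left : U ≤ U ⊔ V)) := by
  refine ⟨(injective_iff_map_eq_zero _).2 fun x e1 => ?_, fun y => ?_⟩
  · have e2 : rs G n (le_sup_right : V ≤ U ⊔ V) x = 0 := (hV n).elim _ _
    cases n with
    | zero =>
      refine (hc0 G _).injective ?_
      rw [map_zero]
      exact TopCat.Sheaf.eq_of_locally_eq₂ G (homOfLE le_sup_left) (homOfLE le_sup_right) le_rfl _ _
        (((hc0_rs _ _ x).symm.trans (by rw [e1, map_zero])).trans (map_zero _).symm)
        (((hc0_rs _ _ x).symm.trans (by rw [e2, map_zero])).trans (map_zero _).symm)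
    | succ m =>
      obtain ⟨v, hv⟩ := mv_exact x e1 e2
      rw [← hv, (hI m).elim v 0, map_zero]
  · obtain ⟨x, hx, -⟩ := mv_glue y (0 : Hc G n V) ((hI n).elim _ _)
    exact ⟨x, hx⟩

end Top

variable {X : Scheme.{u}}

/-- Global functions act on a restriction through restriction. -/
theorem gEnd_restrict {Y : Scheme.{u}} (j : Y ⟶ X) [IsOpenImmersion j] (M : X.Modules) (r : Γ(X, ⊤)) :
    gEnd (M.restrict j) (j.appTop r) = (resEmb (isOpenEmbedding_base j)).map (gEnd M r) := by
  apply CategoryTheory.Sheaf.hom_ext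
  refine NatTrans.ext (funext fun O => AddCommGrpCat.ext fun s => ?_)
  change (j.appIso O.unop).inv (M1.ores (le_top : O.unop ≤ (⊤ : Y.Opens)) (j.appTop r)) •
      (show Γ(M, j ''ᵁ O.unop) from s) =
    M1.ores (le_top : j ''ᵁ O.unop ≤ (⊤ : X.Opens)) r • (show Γ(M, j ''ᵁ O.unop) from s)
  congr 1
  exact ConcreteCategory.congr_hom (j.appLE_appIso_inv (U := ⊤) (V := O.unop) le_top) r

theorem exists_HH_restrict (U : X.Opens) (M : X.Modules) (n : ℕ) :
    ∃ ε : Coh.HH (U : Scheme.{u}) (M.restrict U.ι) n ≃+ Hc ((abF X).obj M) n U,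
      ∀ (r : Γ(X, ⊤)) x, ε ((show Coh.Γtop (U : Scheme.{u}) from U.ι.appTop r) • x) = gMul M r n U (ε x) := by
  obtain ⟨ε, hε⟩ : ∃ ε : Hc ((abF U.toScheme).obj (M.restrict U.ι)) n ⊤ ≃+ Hc ((abF X).obj M) n U,
      ∀ (r : Γ(X, ⊤)) x, ε (gMul (M.restrict U.ι) (U.ι.appTop r) n ⊤ x) = gMul M r n _ (ε x) := by
    have h : ∃ ε : Hc ((abF U.toScheme).obj (M.restrict U.ι)) n ⊤ ≃+ Hc ((abF X).obj M) n (U.ι ''ᵁ ⊤),
        ∀ (r : Γ(X, ⊤)) x, ε (gMul (M.restrict U.ι) (U.ι.appTop r) n ⊤ x) = gMul M r n _ (ε x) := by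
      obtain ⟨ε, hε⟩ := exists_hc_resEmb_commute (isOpenEmbedding_base U.ι) ((abF X).obj M) n ⊤
      refine ⟨ε, fun r x => ?_⟩
      show ε (mp (gEnd (M.restrict U.ι) (U.ι.appTop r)) n ⊤ x) = _
      rw [gEnd_restrict]
      exact hε (gEnd M r) x
    rwa [Scheme.Opens.ι_image_top] at h
  refine ⟨(hhExt _ n).trans ε, fun r x => ?_⟩
  exact (congrArg ε (hExt_map (gEnd (M.restrict U.ι) (U.ι.appTop r)) n x)).trans (hε r (hhExt _ n x))

variable {k : Type u} [CommRing k] [X.Over (Spec (CommRingCat.of k))]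

/-- Cohomology seen over an open outside which everything vanishes. -/
theorem nonempty_linearEquiv_restrict (U : X.Opens) (M : X.Modules) (n : ℕ)
    (hb : Function.Bijective (rs ((abF X).obj M) n (le_top : (U : Opens (sp X)) ≤ ⊤))) :
    letI : (U : Scheme.{u}).Over (Spec (CommRingCat.of k)) := ⟨U.ι ≫ (X ↘ Spec (CommRingCat.of k))⟩
    Nonempty (Coh.HH X M n ≃ₗ[k] Coh.HH (U : Scheme.{u}) (M.restrict U.ι) n) := by
  letI : (U : Scheme.{u}).Over (Spec (CommRingCat.of k)) := ⟨U.ι ≫ (X ↘ Spec (CommRingCat.of k))⟩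
  obtain ⟨ε, hε⟩ := exists_HH_restrict U M n
  let e : Coh.HH X M n ≃+ Coh.HH (U : Scheme.{u}) (M.restrict U.ι) n :=
    ((hhExt M n).trans (AddEquiv.ofBijective _ hb)).trans ε.symm
  refine ⟨e.toLinearEquiv fun c x => ε.injective ?_⟩
  let r : Γ(X, ⊤) := Coh.toGlobal (X ↘ Spec (CommRingCat.of k)) c
  show ε (ε.symm (rs _ n le_top (hhExt M n (r • x)))) =
    ε ((show Coh.Γtop (U : Scheme.{u}) from U.ι.appTop r) • ε.symm (rs _ n le_top (hhExt M n x)))
  rw [hε, AddEquiv.apply_symm_apply, AddEquiv.apply_symm_apply]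
  exact (congrArg (rs _ n le_top) (hExt_map (gEnd M r) n x)).trans (mp_rs (gEnd M r) n _ _).symm

/-- Restriction is bijective when the rest is acyclic, over the whole space. -/
theorem rs_bijective_top {T : TopCat.{u}} {G : CohTop.Ab T} {U V : Opens T} (h : U ⊔ V = ⊤)
    (hV : ∀ n, Subsingleton (Hc G n V)) (hI : ∀ n, Subsingleton (Hc G n (U ⊓ V))) (n : ℕ) :
    Function.Bijective (rs G n (le_top : U ≤ ⊤)) := by
  suffices ∀ W (hle : U ≤ W), U ⊔ V = W → Function.Bijective (rs G n hle) from this ⊤ le_top h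
  rintro W hle rfl
  exact rs_bijective hV hI n

/-- Composing the structure map with a map of spectra composes the scalars. -/
theorem toGlobal_comp_map {Y : Scheme.{u}} {R S : Type u} [CommRing R] [CommRing S]
    (f : Y ⟶ Spec (CommRingCat.of S)) (φ : R →+* S) (c : R) :
    Coh.toGlobal (f ≫ Spec.map (CommRingCat.ofHom φ)) c = Coh.toGlobal f (φ c) := by
  have h := ConcreteCategory.congr_hom (Scheme.ΓSpecIso_inv_naturality (CommRingCat.ofHom φ)) c
  show (f ≫ Spec.map (CommRingCat.ofHom φ)).appTop ((Scheme.ΓSpecIso (CommRingCat.of R)).inv c) =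
    f.appTop ((Scheme.ΓSpecIso (CommRingCat.of S)).inv (φ c))
  rw [Scheme.Hom.comp_appTop]
  exact congrArg f.appTop h.symm

/-- A module vanishing off an open is the direct image of its restriction. -/
theorem nonempty_iso_pushforward_restrict {V : Scheme.{u}} (j : V ⟶ X) [IsOpenImmersion j] (M : X.Modules)
    {O : X.Opens} (hO : j.opensRange ⊔ O = ⊤)
    (hz : ∀ x ∈ O, ∃ W : X.Opens, W ≤ O ∧ x ∈ W ∧ IsZero (M.restrict W.ι)) :
    Nonempty (M ≅ (Scheme.Modules.pushforward j).obj (M.restrict j)) := by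
  have hloc : ∀ W : X.Opens, IsZero (M.restrict W.ι) → ∀ W' ≤ W, Subsingleton Γ(M, W') := fun W hW W' hle => by
    have hi : W.ι ''ᵁ (W.ι ⁻¹ᵁ W') = W' := by
      rw [Scheme.Hom.image_preimage_eq_opensRange_inf, Scheme.Opens.opensRange_ι, inf_eq_right.2 hle]
    have h0 : Subsingleton Γ(M.restrict W.ι, W.ι ⁻¹ᵁ W') := ⟨fun a b => by
      have h := ConcreteCategory.congr_hom (congrArg (fun φ => Scheme.Modules.Hom.app φ (W.ι ⁻¹ᵁ W'))
        ((IsZero.iff_id_eq_zero _).1 hW))
      exact (h a).trans (h b).symm⟩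
    have h1 : Subsingleton Γ(M, W.ι ''ᵁ (W.ι ⁻¹ᵁ W')) := h0
    rwa [hi] at h1
  have hsub : ∀ W : X.Opens, W ≤ O → Subsingleton Γ(M, W) := fun W hW => ⟨fun a b => by
    refine M1.section_ext _ _ fun x hx => ?_
    obtain ⟨W', -, hxW', hz'⟩ := hz x (hW hx)
    have h := (hloc W' hz' (W ⊓ W') inf_le_right).elim (M1.mres M (inf_le_left : W ⊓ W' ≤ W) a)
      (M1.mres M (inf_le_left : W ⊓ W' ≤ W) b)
    have h' := congrArg (M.presheaf.germ (W ⊓ W') x ⟨hx, hxW'⟩) h
    rwa [M1.germ_mres, M1.germ_mres] at h'⟩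
  let η := (Scheme.Modules.restrictAdjunction j).unit.app M
  haveI : IsIso η := by
    refine Scheme.Modules.Hom.isIso_iff_isIso_app.2 fun W => ?_
    rw [ConcreteCategory.isIso_iff_bijective, Scheme.Modules.restrictAdjunction_unit_app_app]
    have hW : W = (j ''ᵁ j ⁻¹ᵁ W) ⊔ (W ⊓ O) := by
      rw [Scheme.Hom.image_preimage_eq_opensRange_inf, inf_comm j.opensRange, ← inf_sup_left, hO, inf_top_eq]
    refine ⟨fun a b h => ?_, fun s => ?_⟩
    · refine TopCat.Sheaf.eq_of_locally_eq₂ ⟨_, M.isSheaf⟩ (homOfLE (j.image_preimage_le W)) (homOfLE inf_le_left)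
        hW.le a b h ((hsub _ inf_le_right).elim _ _)
    · let F : TopCat.Sheaf AddCommGrpCat.{u} (sp X) := ⟨_, M.isSheaf⟩
      let U' : Bool → X.Opens := fun b => bif b then j ''ᵁ j ⁻¹ᵁ W else W ⊓ O
      let iUV : ∀ b, U' b ⟶ W := fun b => homOfLE (by
        cases b
        · exact inf_le_left
        · exact j.image_preimage_le W)
      obtain ⟨t, ht, -⟩ := F.existsUnique_gluing' U' W iUV
        (hW.le.trans (sup_le (le_iSup U' true) (le_iSup U' false)))
        (fun b => match b with | true => s | false => 0) (fun a b => by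
          cases a <;> cases b
          · rfl
          · exact (hsub _ (inf_le_left.trans inf_le_right)).elim _ _
          · exact (hsub _ (inf_le_right.trans inf_le_right)).elim _ _
          · rfl)
      exact ⟨t, ht true⟩
  exact ⟨asIso η⟩

end Groth.Agent.Poincare22
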