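import Groth.Agent.Lib.CubeField.Contract
import Groth.Agent.Lib.CubeField.Simple
import Groth.Agent.Lib.Ample18.Sections
import Groth.Agent.Lib.RigidRel.Local
import Groth.Agent.Lib.CohFound.ModAb
import Mathlib.RingTheory.Spectrum.Prime.RingHom

/-!
# A section not killed by the socle generates
-/

universe u

open CategoryTheory Limits AlgebraicGeometry TopologicalSpace Opposite

set_option linter.style.haveILetI false
set_option maxHeartbeats 1000000
set_option backward.isDefEq.respectTransparency false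

noncomputable section

namespace Groth.Agent.Poincare22

open RigidRel

variable {R : CommRingCat.{u}} {X : Scheme.{u}} (ξ : X ⟶ Spec R)

/-- A nowhere generating section is killed by the socle of the base. -/
theorem smul_eq_zero_of_genLocus_eq_bot (m : Ideal R) (c : R) (hc : ∀ b ∈ m, c * b = 0)
    [IsReduced (pullback ξ (quotBase m))] {M : X.Modules} (hM : PicF.IsInvertible M) (t : Γ(M, ⊤))
    (h : CohB1.genLocus M (M1.secHom t) = ⊥) : ringMap ξ ⊤ c • t = 0 := by
  refine TopCat.Sheaf.eq_of_locally_eq' (F := (CohFound.abF X).obj M)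
    (fun U : {U : X.Opens // IsAffineOpen U ∧ ∃ e : Γ(M, U), M2.IsGenerator e} => U.1) ⊤ (fun _ => homOfLE le_top)
    (fun x _ => ?_) _ _ fun ⟨U, hU, e, he⟩ => ?_
  · obtain ⟨U, e, hxU, -, hU, he⟩ := Amp.exists_isGenerator hM (V := ⊤) (x := x) trivial
    exact Opens.mem_iSup.2 ⟨⟨U, hU, e, he⟩, hxU⟩
  show M2.res M le_top (ringMap ξ ⊤ c • t) = M2.res M le_top (0 : Γ(M, ⊤))
  obtain ⟨a, ha⟩ := Amp.exists_coeff he (M2.res M le_top t)
  have hb : X.basicOpen a = ⊥ := by
    rw [← Amp.genLocus_inf_eq_basicOpen hM (M1.secHom t) he (by rw [Amp.gval_secHom]; exact ha), h, bot_inf_eq]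
  have h0 : (pullback.fst ξ (quotBase m)).app U a = 0 := by
    have h1 := congrArg (fun W => (pullback.fst ξ (quotBase m)) ⁻¹ᵁ W) hb
    simp only [Scheme.preimage_basicOpen] at h1
    exact eq_zero_of_basicOpen_eq_bot (X := pullback ξ (quotBase m)) _ (h1.trans (by ext; simp))
  have hle : m.map (ringMap ξ U).hom ≤ ((⊥ : Ideal Γ(X, U)).colon {ringMap ξ U c}) := by
    refine Ideal.map_le_iff_le_comap.2 fun b hb' => ?_
    show ringMap ξ U b ∈ (⊥ : Ideal Γ(X, U)).colon {ringMap ξ U c}
    rw [Submodule.mem_colon_singleton, smul_eq_mul, ← map_mul, mul_comm, hc b hb', map_zero]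
    exact zero_mem _
  have h2 : ringMap ξ U c * a = 0 := by
    have := Submodule.mem_colon_singleton.1 (hle (mem_map_of_app_eq_zero ξ m hU a h0))
    rw [smul_eq_mul, Ideal.mem_bot] at this
    rwa [mul_comm]
  rw [Amp.res_smul, ← ha, ← mul_smul,
    show X.presheaf.map (homOfLE (le_top : U ≤ ⊤)).op (ringMap ξ ⊤ c) = ringMap ξ U c from
      ConcreteCategory.congr_hom (ringMap_res ξ (le_top : U ≤ ⊤)) c, h2, zero_smul]
  exact (map_zero _).symm

/-- A section not killed by the socle generates, when the closed fibre is trivial. -/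
theorem nonempty_iso_of_smul_ne_zero [IsProper ξ] (m : Ideal R) [m.IsMaximal] (c : R) (hc : ∀ b ∈ m, c * b = 0)
    (hnil : m ≤ nilradical R) [IsIntegral (pullback ξ (quotBase m))] {M : X.Modules} (hM : PicF.IsInvertible M)
    (h0 : Nonempty ((Scheme.Modules.pullback (pullback.fst ξ (quotBase m))).obj M ≅
      Coh.structureModule (pullback ξ (quotBase m))))
    (t : Γ(M, ⊤)) (ht : ringMap ξ ⊤ c • t ≠ 0) : Nonempty (M ≅ Coh.structureModule X) := by
  set i := pullback.fst ξ (quotBase m)
  have hne : CohB1.genLocus M (M1.secHom t) ≠ ⊥ := fun h => ht (smul_eq_zero_of_genLocus_eq_bot ξ m c hc hM t h)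
  haveI : Surjective (quotBase m) := by
    refine ⟨fun p => ?_⟩
    change p ∈ Set.range (PrimeSpectrum.comap (Ideal.Quotient.mk m))
    rw [range_comap_of_surjective (f := Ideal.Quotient.mk m) (S := R ⧸ m) Ideal.Quotient.mk_surjective, Ideal.mk_ker]
    exact (PrimeSpectrum.mem_zeroLocus _ _).2 fun b hb => nilradical_le_prime p.asIdeal (hnil hb)
  haveI : Surjective i := MorphismProperty.pullback_fst _ _ inferInstance
  refine CubeField.nonempty_iso_of_genLocus_eq_univ hM (M1.secHom t) ?_
  letI := Ideal.Quotient.field m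
  let e := (PicLoc.pullbackStructureIso i).symm
  rcases CubeField.genLocus_eq_bot_or_top_of_isTriv (k := R ⧸ m) (pullback.snd ξ (quotBase m))
    (h0 : CubeField.IsTriv _) (e.hom ≫ (Scheme.Modules.pullback i).map (M1.secHom t)) with hb | ht'
  · rw [Amp.genLocus_pullback i hM (M1.secHom t) e] at hb
    refine absurd (eq_bot_iff.2 fun x hx => ?_) hne
    obtain ⟨y, rfl⟩ := i.surjective x
    have : y ∈ i ⁻¹ᵁ CohB1.genLocus M (M1.secHom t) := hx
    rw [hb] at this
    exact this.elim
  · rw [Amp.genLocus_pullback i hM (M1.secHom t) e] at ht'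
    refine Set.eq_univ_of_forall fun x => ?_
    obtain ⟨y, rfl⟩ := i.surjective x
    exact ht'.ge (trivial : y ∈ (⊤ : Opens _))

end Groth.Agent.Poincare22
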