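import Groth.Agent.Lib.Poincare22.Point
import Groth.Agent.Lib.Poincare22.Trivial
import Groth.Agent.Lib.Poincare22.Fibres
import Groth.Agent.Lib.CBC10.Near
import Groth.Agent.Lib.CubeField.Fin
import Groth.Agent.Lib.MumVan22.Surj
import Groth.Agent.Lib.AbRigid.SmoothGI

/-!
# The complex of a Poincaré module over an affine neighbourhood of the origin
-/

universe u

open CategoryTheory Limits MonoidalCategory CartesianMonoidalCategory AlgebraicGeometry TopologicalSpace Opposite
open scoped MonObj GrpObj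

set_option linter.style.haveILetI false
set_option linter.unusedSectionVars false
set_option maxHeartbeats 1000000
set_option maxRecDepth 4000
set_option backward.isDefEq.respectTransparency false

noncomputable section

namespace Groth.Agent.Poincare22

open Groth.Agent.AbDual21 Groth.Agent.PicDesc21 RigidRel

/-- Degree zero cohomology as sections. -/
def secEquiv {X : Scheme.{u}} (M : X.Modules) : Coh.HH X M 0 ≃+ Γ(M, ⊤) :=
  Sheaf.H.equiv₀ (Coh.toAb M) (isTerminalTop : IsTerminal (⊤ : X.Opens))

/-- Scalars on degree zero cohomology act on sections through the structure map. -/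
theorem equiv₀_smul {B : Type u} [CommRing B] {X : Scheme.{u}} [X.Over (Spec (CommRingCat.of B))] (M : X.Modules)
    (c : B) (x : Coh.HH X M 0) :
    secEquiv M (c • x) = ringMap (R := CommRingCat.of B) (X ↘ Spec (CommRingCat.of B)) ⊤ c • secEquiv M x := by
  rw [RigidRel.ringMap_top]
  refine (Sheaf.H.equiv₀_naturality _ (Coh.smulAb M (Coh.toGlobal (X ↘ Spec (CommRingCat.of B)) c)) x).symm.trans ?_
  show M1.ores (le_top : (⊤ : X.Opens) ≤ ⊤) (Coh.toGlobal (X ↘ Spec (CommRingCat.of B)) c) • secEquiv M x = _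
  rw [M1.ores_id]
  rfl

variable {k : Type u} [Field k] {A At : Over (Spec (CommRingCat.of k))} [GrpObj A] [GrpObj At]
  {φ : ∀ T : Over (Spec (CommRingCat.of k)), PicF.Cl (PicF.XT A.hom T) → (T ⟶ At)}
  [IsProper A.hom] [Smooth A.hom] [GeometricallyConnected A.hom] [GeometricallyIntegral A.hom] [IsProper At.hom]
  (hφ : AbDual.IsDualAV Scheme.fppfPrecoverage A At φ) {P : (PicF.XT A.hom At).Modules}
  (hP : PicF.IsInvertible P) (hξ : AbDual.IsPoincareCl A At φ (PicF.cl P))
  {V : At.left.Opens} (hV : IsAffineOpen V)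

/-- The constants in the functions on `V`. -/
def cst : k →+* Γ(At.left, V) := (Spec.preimage (hV.fromSpec ≫ At.hom)).hom

theorem map_cst : Spec.map (CommRingCat.ofHom (cst (k := k) hV)) = hV.fromSpec ≫ At.hom := Spec.map_preimage _

variable (K : Type u) [CommRing K] [Algebra Γ(At.left, V) K]

/-- The constants in an algebra over the functions on `V`. -/
abbrev cstAlg : Algebra k K := ((algebraMap Γ(At.left, V) K).comp (cst (k := k) hV)).toAlgebra

/-- The base of an algebra over the functions on `V`. -/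
abbrev base : Over (Spec (CommRingCat.of k)) :=
  Over.mk (Spec.map (CommRingCat.ofHom ((algebraMap Γ(At.left, V) K).comp (cst (k := k) hV))))

/-- The point of the dual given by an algebra over the functions on `V`. -/
def pt : base (k := k) hV K ⟶ At :=
  Over.homMk (Spec.map (CommRingCat.ofHom (algebraMap Γ(At.left, V) K)) ≫ hV.fromSpec) (by
    show _ = Spec.map (CommRingCat.ofHom ((algebraMap Γ(At.left, V) K).comp (cst (k := k) hV)))
    rw [Category.assoc, ← map_cst hV, ← Spec.map_comp]
    rfl)

theorem isPullback_pt :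
    IsPullback (A ◁ pt hV K).left (pullback.snd A.hom (base (k := k) hV K).hom) (snd A At).left
      (Spec.map (CommRingCat.ofHom (algebraMap Γ(At.left, V) K)) ≫ hV.fromSpec) := by
  refine IsPullback.of_right ?_ (congrArg CommaMorphism.left (whiskerLeft_snd A (pt hV K)))
    (IsPullback.of_hasPullback A.hom At.hom)
  have h1 : (A ◁ pt hV K).left ≫ pullback.fst A.hom At.hom = pullback.fst A.hom (base (k := k) hV K).hom :=
    congrArg CommaMorphism.left (whiskerLeft_fst A (pt hV K))
  have h2 : (Spec.map (CommRingCat.ofHom (algebraMap Γ(At.left, V) K)) ≫ hV.fromSpec) ≫ At.hom =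
      (base (k := k) hV K).hom := Over.w (pt hV K)
  rw [h1, h2]
  exact IsPullback.of_hasPullback A.hom (base (k := k) hV K).hom

variable {ev : Γ(At.left, V) ⟶ CommRingCat.of k} (hev : Spec.map ev ≫ hV.fromSpec = η[At].left)

include hev

theorem ev_cst (c : k) : ev (cst (k := k) hV c) = c := by
  have h : Spec.map (CommRingCat.ofHom (cst (k := k) hV) ≫ ev) = Spec.map (𝟙 (CommRingCat.of k)) := by
    rw [Spec.map_comp, map_cst, ← Category.assoc, hev, Spec.map_id]
    exact Over.w η[At]
  exact ConcreteCategory.congr_hom (Spec.map_injective h) c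

theorem isMaximal_ker : (RingHom.ker ev.hom).IsMaximal :=
  RingHom.ker_isMaximal_of_surjective _ fun c => ⟨_, ev_cst hV hev c⟩

/-- A map killing the ideal of the origin factors through the constants. -/
theorem eq_comp {R : Type u} [CommRing R] (f : Γ(At.left, V) →+* R) (hf : RingHom.ker ev.hom ≤ RingHom.ker f) :
    f = (f.comp (cst (k := k) hV)).comp ev.hom := by
  ext a
  have : a - cst (k := k) hV (ev a) ∈ RingHom.ker ev.hom := by
    rw [RingHom.mem_ker, map_sub]
    exact sub_eq_zero.2 (ev_cst hV hev _).symm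
  have h := RingHom.mem_ker.1 (hf this)
  rw [map_sub, sub_eq_zero] at h
  exact h

theorem left_eq {R : Type u} [CommRing R] (f : Γ(At.left, V) →+* R) (hf : RingHom.ker ev.hom ≤ RingHom.ker f) :
    Spec.map (CommRingCat.ofHom f) ≫ hV.fromSpec =
      Spec.map (CommRingCat.ofHom (f.comp (cst (k := k) hV))) ≫ η[At].left := by
  conv_lhs => rw [eq_comp hV hev f hf]
  rw [← hev, ← Category.assoc, ← Spec.map_comp]
  rfl

theorem pt_eq_one_iff : pt hV K = 1 ↔ RingHom.ker ev.hom ≤ RingHom.ker (algebraMap Γ(At.left, V) K) := by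
  constructor
  · intro h c hc
    have h1 : Spec.map (CommRingCat.ofHom (algebraMap Γ(At.left, V) K)) ≫ hV.fromSpec =
        Spec.map (CommRingCat.ofHom ((algebraMap Γ(At.left, V) K).comp (cst (k := k) hV))) ≫ η[At].left := by
      have h' := h
      rw [Hom.one_def] at h'
      have := congrArg (fun f : base (k := k) hV K ⟶ At => f.left) h'
      exact this.trans (by rw [Over.comp_left, Over.toUnit_left]; rfl)
    rw [← hev, ← Category.assoc, ← Spec.map_comp, cancel_mono] at h1
    have h2 := ConcreteCategory.congr_hom (Spec.map_injective h1) c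
    rw [RingHom.mem_ker]
    refine h2.trans ?_
    show algebraMap _ K (cst hV (ev c)) = 0
    rw [show ev c = 0 from hc, map_zero, map_zero]
  · intro h
    apply Over.OverMorphism.ext
    rw [Hom.one_def, Over.comp_left, Over.toUnit_left]
    exact left_eq hV hev _ h

variable {C : ChainComplex (ModuleCat.{u} Γ(At.left, V)) ℤ} (hC : CBC10.ComputesOn (snd A At).left P hV C)

omit hev in
include hP hC in
/-- Degree zero homology with coefficients in an algebra as sections. -/
theorem exists_sections :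
    ∃ Θ : CohIII.T C 0 (ModuleCat.of Γ(At.left, V) K) ≃+ Γ((Scheme.Modules.pullback (A ◁ pt hV K).left).obj P, ⊤),
      ∀ a x, Θ (a • x) = ringMap (R := CommRingCat.of K) (pullback.snd A.hom (base (k := k) hV K).hom) ⊤
        (algebraMap Γ(At.left, V) K a) • Θ x := by
  haveI : IsProper (snd A At).left := inferInstanceAs (IsProper (pullback.snd A.hom At.hom))
  letI : (A ⊗ base (k := k) hV K).left.Over (Spec (CommRingCat.of K)) :=
    ⟨pullback.snd A.hom (base (k := k) hV K).hom⟩
  obtain ⟨ε, hε⟩ := hC.exists_bc (CubeField.isCoh_of_isInvertible hP).1 (B := K) (X' := (A ⊗ base (k := k) hV K).left)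
    (isPullback_pt hV K)
  let e₀ := secEquiv ((Scheme.Modules.pullback (A ◁ pt hV K).left).obj P)
  refine ⟨(ε 0).trans e₀, fun a x => ?_⟩
  have h1 : (CohIII.TFun C (-((0 : ℕ) : ℤ))).map
      (ModuleCat.ofHom (LinearMap.mulLeft Γ(At.left, V) (algebraMap Γ(At.left, V) K a))) x = a • x := by
    rw [show LinearMap.mulLeft Γ(At.left, V) (algebraMap Γ(At.left, V) K a) = a • (LinearMap.id : K →ₗ[Γ(At.left, V)] K)
      from LinearMap.ext fun y => (Algebra.smul_def a y).symm]
    exact (LinearMap.congr_fun (FlatCxLib.Tmap_smul C _ a LinearMap.id) x).trans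
      (congrArg (a • ·) (LinearMap.congr_fun (FlatCxLib.Tmap_id C _) x))
  show e₀ (ε 0 (a • x)) = _
  refine (congrArg e₀ ((congrArg (ε 0) h1.symm).trans (hε 0 (algebraMap Γ(At.left, V) K a) x))).trans ?_
  exact equiv₀_smul _ _ _

include hφ hP hξ hC in
omit K in
/-- Away from the origin the fibres are acyclic. -/
theorem dRank_eq_zero [IsNoetherianRing Γ(At.left, V)]
    [∀ i, Module.Finite Γ(At.left, V) (C.X i)] [∀ i, Module.Flat Γ(At.left, V) (C.X i)] (hpos : ∀ p : ℤ, 0 < p → ∀ M : ModuleCat.{u} Γ(At.left, V), Subsingleton (CohIII.T C p M))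
    (q : ℤ) (x : PrimeSpectrum Γ(At.left, V)) (hx : x.asIdeal ≠ RingHom.ker ev.hom) : CohIII.dRank C q x = 0 := by
  haveI : IsProper (snd A At).left := inferInstanceAs (IsProper (pullback.snd A.hom At.hom))
  let K := x.asIdeal.ResidueField
  have h0 : Subsingleton (CohIII.T C q (ModuleCat.of Γ(At.left, V) K)) := by
    rcases lt_or_ge 0 q with hq | hq
    · exact hpos q hq _
    obtain ⟨p, rfl⟩ : ∃ p : ℕ, q = -(p : ℤ) := ⟨(-q).toNat, by omega⟩
    letI : (A ⊗ base (k := k) hV K).left.Over (Spec (CommRingCat.of K)) :=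
      ⟨pullback.snd A.hom (base (k := k) hV K).hom⟩
    obtain ⟨ε, -⟩ := hC.exists_bc (CubeField.isCoh_of_isInvertible hP).1 (B := K) (X' := (A ⊗ base (k := k) hV K).left)
      (isPullback_pt hV K)
    letI := cstAlg (k := k) hV K
    have hne : pt hV K ≠ 1 := fun h => hx (((isMaximal_ker hV hev).eq_of_le x.isPrime.ne_top (fun c hc => by
      have := (pt_eq_one_iff hV K hev).1 h hc
      rwa [RingHom.mem_ker, Ideal.algebraMap_residueField_eq_zero] at this)).symm)
    have := subsingleton_fibre hφ hP hξ (pt hV K) hne p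
    exact @Equiv.subsingleton _ _ (ε p).toEquiv this
  have := (CBC10.subsingleton_T_field_iff C K q).1 h0
  rwa [comap_residueField] at this

include hφ hP hξ hC in
omit K in
/-- Degree zero homology is corepresented by the residue field of the origin. -/
theorem corep_residue [IsNoetherianRing Γ(At.left, V)]
    [∀ i, Module.Finite Γ(At.left, V) (C.X i)] [∀ i, Module.Flat Γ(At.left, V) (C.X i)]
    (hpos : ∀ p : ℤ, 0 < p → ∀ M : ModuleCat.{u} Γ(At.left, V), Subsingleton (CohIII.T C p M))
    (M : Type u) [AddCommGroup M] [Module Γ(At.left, V) M] :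
    Nonempty (CohIII.T C 0 (ModuleCat.of Γ(At.left, V) M) ≃ₗ[Γ(At.left, V)]
      ((Γ(At.left, V) ⧸ RingHom.ker ev.hom) →ₗ[Γ(At.left, V)] M)) := by
  set m := RingHom.ker ev.hom with hm
  haveI := isMaximal_ker hV hev
  haveI := AbRigid.geometricallyReduced_of_smooth A.hom
  -- the fibre at the origin
  have hone : Nonempty (CohIII.T C 0 (ModuleCat.of Γ(At.left, V) (Γ(At.left, V) ⧸ m)) ≃ₗ[Γ(At.left, V)]
      Γ(At.left, V) ⧸ m) := by
    let K := Γ(At.left, V) ⧸ m
    obtain ⟨Θ, hΘ⟩ := exists_sections hP hV K hC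
    have hq : pt hV K = 1 := (pt_eq_one_iff hV K hev).2 fun c hc => Ideal.Quotient.eq_zero_iff_mem.2 hc
    obtain ⟨ιI⟩ := (PicGrp.cl_eq_cl_iff _ _).1 ((PicLoc.pullCl_cl _ _).symm.trans ((triv_iff hφ hξ (pt hV K)).2 hq))
    let ρ : Γ((Scheme.Modules.pullback (A ◁ pt hV K).left).obj P, ⊤) ≃+
        Γ(Coh.structureModule (A ⊗ base (k := k) hV K).left, ⊤) :=
      { toFun := ιI.hom.app ⊤
        invFun := ιI.inv.app ⊤
        left_inv := fun s => by
          show (ιI.hom ≫ ιI.inv).app ⊤ s = s
          rw [Iso.hom_inv_id]; rfl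
        right_inv := fun s => by
          show (ιI.inv ≫ ιI.hom).app ⊤ s = s
          rw [Iso.inv_hom_id]; rfl
        map_add' := map_add _ }
    let r := ringMap (R := CommRingCat.of K) (pullback.snd A.hom (base (k := k) hV K).hom) ⊤
    have hr : Function.Bijective r := by
      show Function.Bijective (ringMap (R := CommRingCat.of K) (pullback.snd A.hom (base (k := k) hV K).hom) ⊤).hom
      rw [RigidRel.ringMap_top, CommRingCat.hom_comp, RingHom.coe_comp]
      exact (bijective_appTop_snd A _ _).comp (Scheme.ΓSpecIso _).symm.commRingCatIsoToRingEquiv.bijective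
    let eK : K ≃+ Γ(Coh.structureModule (A ⊗ base (k := k) hV K).left, ⊤) := AddEquiv.ofBijective r.hom.toAddMonoidHom hr
    refine ⟨(((Θ.trans ρ).trans eK.symm)).toLinearEquiv fun a x => ?_⟩
    refine eK.symm_apply_eq.2 ?_
    show ρ (Θ (a • x)) = r (a • eK.symm (ρ (Θ x)))
    rw [hΘ, Algebra.smul_def, map_mul]
    refine (Scheme.Modules.Hom.app_smul ιI.hom _ _).trans ?_
    congr 1
    exact (eK.apply_symm_apply _).symm
  obtain ⟨I, n, hn, hIm, hI⟩ := exists_cyclic C m hpos (fun x hx => dRank_eq_zero hφ hP hξ hV hev hC hpos 0 x hx) hone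
  obtain rfl : I = m := by
    by_contra hne
    have hle : ¬ m ≤ I := fun h => hne (le_antisymm hIm h)
    classical
    let N := Nat.find (p := fun i => m ^ i ≤ I) ⟨n, hn⟩
    have hN : m ^ N ≤ I := Nat.find_spec (p := fun i => m ^ i ≤ I) ⟨n, hn⟩
    obtain ⟨j, hj⟩ : ∃ j, N = j + 1 := Nat.exists_eq_succ_of_ne_zero fun h => by
      rw [h, pow_zero, Ideal.one_eq_top] at hN
      exact hle (le_top.trans hN)
    have hjI : ¬ m ^ j ≤ I := fun h => by
      have : N ≤ j := Nat.find_le h
      omega
    obtain ⟨c, hc, hcI⟩ := SetLike.not_le_iff_exists.1 hjI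
    let B := Γ(At.left, V) ⧸ I
    obtain ⟨Θ, hΘ⟩ := exists_sections hP hV B hC
    obtain ⟨eI⟩ := hI B
    let x := eI.symm LinearMap.id
    have hsurj : Function.Surjective (Ideal.Quotient.mk I) := Ideal.Quotient.mk_surjective
    let mB : Ideal B := m.map (Ideal.Quotient.mk I)
    haveI : mB.IsMaximal := Ideal.IsMaximal.map_of_surjective_of_ker_le hsurj (by rw [Ideal.mk_ker]; exact hIm)
    have hcb : ∀ b ∈ mB, Ideal.Quotient.mk I c * b = 0 := fun b hb => by
      obtain ⟨d, hd, rfl⟩ := (Ideal.mem_map_iff_of_surjective _ hsurj).1 hb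
      rw [← map_mul, Ideal.Quotient.eq_zero_iff_mem]
      exact hN (by rw [hj, pow_succ]; exact Ideal.mul_mem_mul hc hd)
    have hnil : mB ≤ nilradical B := fun b hb => by
      obtain ⟨d, hd, rfl⟩ := (Ideal.mem_map_iff_of_surjective _ hsurj).1 hb
      refine mem_nilradical.2 ⟨N, ?_⟩
      rw [← map_pow, Ideal.Quotient.eq_zero_iff_mem]
      exact hN (Ideal.pow_mem_pow hd N)
    let ξ' : (A ⊗ base (k := k) hV B).left ⟶ Spec (CommRingCat.of B) := pullback.snd A.hom (base (k := k) hV B).hom
    have ht : ringMap (R := CommRingCat.of B) ξ' ⊤ (Ideal.Quotient.mk I c) • Θ x ≠ 0 := fun h => hcI (by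
      have h' : Θ (c • x) = 0 := (hΘ c x).trans h
      rw [AddEquiv.map_eq_zero_iff] at h'
      have h1 := congrArg eI h'
      rw [map_smul, map_zero, LinearEquiv.apply_symm_apply] at h1
      have h2 := LinearMap.congr_fun h1 (Ideal.Quotient.mk I 1)
      refine Ideal.Quotient.eq_zero_iff_mem.1 (Eq.trans ?_ h2)
      show _ = Ideal.Quotient.mk I (c * 1)
      rw [mul_one])
    letI := Ideal.Quotient.field mB
    let j₀ := RigidRel.quotBase (R := CommRingCat.of B) mB
    haveI : IsProper ξ' := MorphismProperty.pullback_snd _ _ inferInstance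
    haveI : GeometricallyIntegral ξ' := MorphismProperty.pullback_snd _ _ inferInstance
    haveI : GeometricallyIntegral (pullback.snd ξ' j₀) := MorphismProperty.pullback_snd _ _ inferInstance
    haveI : Subsingleton ↥(Spec (CommRingCat.of (B ⧸ mB))) := inferInstanceAs (Subsingleton (PrimeSpectrum (B ⧸ mB)))
    haveI : IsIntegral (pullback ξ' j₀) := GeometricallyIntegral.isIntegral_of_subsingleton (pullback.snd ξ' j₀)
    let T₀ : Over (Spec (CommRingCat.of k)) := Over.mk (j₀ ≫ (base (k := k) hV B).hom)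
    let jj : T₀ ⟶ base (k := k) hV B := Over.homMk j₀ rfl
    have hq₀ : jj ≫ pt hV B = 1 := by
      apply Over.OverMorphism.ext
      rw [Hom.one_def, Over.comp_left, Over.comp_left, Over.toUnit_left]
      show j₀ ≫ Spec.map (CommRingCat.ofHom (algebraMap Γ(At.left, V) B)) ≫ hV.fromSpec = _
      rw [← Category.assoc, ← Spec.map_comp, ← CommRingCat.ofHom_comp]
      refine (left_eq hV hev _ fun d hd => ?_).trans ?_
      · exact Ideal.Quotient.eq_zero_iff_mem.2 (Ideal.mem_map_of_mem _ hd)
      · show _ = (j₀ ≫ Spec.map (CommRingCat.ofHom ((algebraMap Γ(At.left, V) B).comp (cst (k := k) hV)))) ≫ η[At].left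
        rw [← Spec.map_comp]
        rfl
    have h0 : Nonempty ((Scheme.Modules.pullback (pullback.fst ξ' j₀)).obj
        ((Scheme.Modules.pullback (A ◁ pt hV B).left).obj P) ≅ Coh.structureModule (pullback ξ' j₀)) := by
      let u : pullback ξ' j₀ ⟶ (A ⊗ T₀).left := pullback.lift (pullback.fst ξ' j₀ ≫ pullback.fst _ _) (pullback.snd ξ' j₀) (by
        show _ = pullback.snd ξ' j₀ ≫ j₀ ≫ (base (k := k) hV B).hom
        rw [Category.assoc, pullback.condition, ← Category.assoc, ← pullback.condition_assoc]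
        rfl)
      have hu : pullback.fst ξ' j₀ ≫ (A ◁ pt hV B).left = u ≫ (A ◁ (jj ≫ pt hV B)).left := by
        rw [whiskerLeft_comp, Over.comp_left, ← Category.assoc]
        refine congrArg (· ≫ (A ◁ pt hV B).left) ?_
        apply pullback.hom_ext
        · rw [Category.assoc]
          refine Eq.trans ?_ (congrArg (u ≫ ·) (congrArg CommaMorphism.left (whiskerLeft_fst A jj)).symm)
          exact (pullback.lift_fst _ _ _).symm
        · rw [Category.assoc]
          refine Eq.trans ?_ (congrArg (u ≫ ·) (congrArg CommaMorphism.left (whiskerLeft_snd A jj)).symm)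
          show _ = u ≫ pullback.snd A.hom T₀.hom ≫ j₀
          rw [← Category.assoc, show u ≫ pullback.snd A.hom T₀.hom = pullback.snd ξ' j₀ from pullback.lift_snd _ _ _]
          exact pullback.condition
      refine (PicGrp.cl_eq_cl_iff _ _).1 ?_
      rw [← PicLoc.pullCl_cl, ← PicLoc.pullCl_cl, pullCl_pullCl, hu, ← pullCl_pullCl, (triv_iff hφ hξ _).2 hq₀]
      exact pullCl_structure u
    have htriv := nonempty_iso_of_smul_ne_zero (R := CommRingCat.of B) ξ' mB (Ideal.Quotient.mk I c) hcb hnil
      (PicLoc.isInvertible_pullback _ hP) h0 (Θ x) ht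
    have hq : pt hV B = 1 :=
      (triv_iff hφ hξ (pt hV B)).1 ((PicLoc.pullCl_cl _ _).trans ((PicGrp.cl_eq_cl_iff _ _).2 htriv))
    exact hle fun d hd => Ideal.Quotient.eq_zero_iff_mem.1 ((pt_eq_one_iff hV B hev).1 hq hd)
  exact hI M

end Groth.Agent.Poincare22
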