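import Groth.Agent.Lib.Index22.LocalVan
import Groth.Agent.Lib.FlatCx.Length

/-!
# Connecting maps in the coefficients
-/

universe u

open CategoryTheory CategoryTheory.Limits
open scoped TensorProduct Pointwise

set_option linter.style.haveILetI false
set_option maxHeartbeats 1000000

noncomputable section

namespace Groth.Agent.Poincare22

open FlatCxLib

variable {A : Type u} [CommRing A] (P : ChainComplex (ModuleCat.{u} A) ℤ) [∀ i, Module.Flat A (P.X i)]

variable {M M' N : Type u} [AddCommGroup M] [Module A M] [AddCommGroup M'] [Module A M'] [AddCommGroup N] [Module A N]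

/-- The connecting map identifies `T_{p+1}(N)` with a kernel when `T_{p+1}(M') = 0`. -/
theorem exists_ker_equiv (i : M →ₗ[A] M') (g : M' →ₗ[A] N) (hi : Function.Injective i) (hg : Function.Surjective g)
    (hex : Function.Exact i g) (p : ℤ) (h : Subsingleton (CohIII.T P (p + 1) (ModuleCat.of A M'))) :
    Nonempty (CohIII.T P (p + 1) (ModuleCat.of A N) ≃ₗ[A] LinearMap.ker (Tmap P p i)) := by
  let f' := CohIII.tensorMap P (ModuleCat.ofHom i)
  let g' := CohIII.tensorMap P (ModuleCat.ofHom g)
  let S : ShortComplex (ChainComplex (ModuleCat.{u} A) ℤ) := ShortComplex.mk f' g' (by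
    ext n x
    exact (lTensor_exact (P.X n) hex hg).apply_apply_eq_zero x)
  have hS : S.ShortExact := HomologicalComplex.shortExact_of_degreewise_shortExact S fun n =>
    { exact := (ShortComplex.ShortExact.moduleCat_exact_iff_function_exact _).2 (lTensor_exact (P.X n) hex hg)
      mono_f := (ModuleCat.mono_iff_injective _).2
        (Module.Flat.lTensor_preserves_injective_linearMap (M := P.X n) i hi)
      epi_g := (ModuleCat.epi_iff_surjective _).2 (LinearMap.lTensor_surjective (P.X n) hg) }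
  have hr : (ComplexShape.down ℤ).Rel (p + 1) p := by simp [ComplexShape.down]
  let δ := (hS.δ (p + 1) p hr).hom
  have e₁ := (ShortComplex.ShortExact.moduleCat_exact_iff_function_exact _).1 (hS.homology_exact₁ (p + 1) p hr)
  have e₃ := (ShortComplex.ShortExact.moduleCat_exact_iff_function_exact _).1 (hS.homology_exact₃ (p + 1) p hr)
  have hinj : Function.Injective δ := by
    rw [injective_iff_map_eq_zero]
    intro x hx
    obtain ⟨y, rfl⟩ := (e₃ x).1 hx
    have : y = 0 := h.elim _ _
    rw [this]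
    exact map_zero _
  refine ⟨(LinearEquiv.ofInjective δ hinj).trans (LinearEquiv.ofEq _ _ ?_)⟩
  ext x
  exact ((e₁ x).symm)

omit [∀ i, Module.Flat A (P.X i)] in
/-- Isomorphic coefficients give isomorphic homology. -/
theorem nonempty_congr (e : M ≃ₗ[A] N) (p : ℤ) :
    Nonempty (CohIII.T P p (ModuleCat.of A M) ≃ₗ[A] CohIII.T P p (ModuleCat.of A N)) :=
  ⟨((CohIII.TFun P p).mapIso e.toModuleIso).toLinearEquiv⟩

omit [∀ i, Module.Flat A (P.X i)] in
theorem exc_congr (e : M ≃ₗ[A] N) {p : ℤ} (h : Index22.Exc P p M) : Index22.Exc P p N := by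
  intro z hz
  obtain ⟨y, hy⟩ := h (e.symm.toLinearMap.lTensor (P.X p) z) (by rw [lTensor_dl, hz, map_zero])
  refine ⟨e.toLinearMap.lTensor _ y, ?_⟩
  rw [lTensor_dl, hy, ← LinearMap.lTensor_comp_apply]
  simp

omit [∀ i, Module.Flat A (P.X i)] in
theorem killed_congr (e : M ≃ₗ[A] N) {c : A} {p : ℤ} (h : Index22.Killed P c p M) : Index22.Killed P c p N := by
  intro z hz
  obtain ⟨n, y, hy⟩ := h (e.symm.toLinearMap.lTensor (P.X p) z) (by rw [lTensor_dl, hz, map_zero])
  refine ⟨n, e.toLinearMap.lTensor _ y, ?_⟩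
  rw [lTensor_dl, hy, map_smul, ← LinearMap.lTensor_comp_apply]
  simp

omit [∀ i, Module.Flat A (P.X i)] in
theorem subsingleton_of_exc {p : ℤ} (h : Index22.Exc P p M) : Subsingleton (CohIII.T P p (ModuleCat.of A M)) := by
  suffices ∀ t : CohIII.T P p (ModuleCat.of A M), t = 0 from ⟨fun a b => (this a).trans (this b).symm⟩
  intro t
  obtain ⟨⟨z, hz⟩, rfl⟩ := cls_surjective (CohIII.tensorObj P (ModuleCat.of A M)) (sub_add_cancel p 1) t
  exact (cls_eq_zero_iff _ _ _).2 (h z hz)

omit [∀ i, Module.Flat A (P.X i)] in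
theorem exists_pow_smul_of_killed {c : A} {p : ℤ} (h : Index22.Killed P c p M)
    (t : CohIII.T P p (ModuleCat.of A M)) : ∃ n : ℕ, c ^ n • t = 0 := by
  obtain ⟨⟨z, hz⟩, rfl⟩ := cls_surjective (CohIII.tensorObj P (ModuleCat.of A M)) (sub_add_cancel p 1) t
  obtain ⟨n, y, hy⟩ := h z hz
  refine ⟨n, ?_⟩
  rw [← map_smul]
  exact (cls_eq_zero_iff _ _ _).2 ⟨y, hy⟩

end Groth.Agent.Poincare22
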