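import Groth.Agent.Lib.Poincare22.Socle
import Groth.Agent.Lib.FlatCx.Corep

/-!
# Homology of a complex at its bad point
-/

universe u

open CategoryTheory CategoryTheory.Limits IsLocalRing
open scoped TensorProduct Pointwise

set_option linter.style.haveILetI false
set_option linter.unusedSectionVars false
set_option maxHeartbeats 1000000
set_option maxRecDepth 4000

noncomputable section

namespace Groth.Agent.Poincare22

open FlatCxLib Groth.Agent.Index22

variable {A : Type u} [CommRing A] [IsNoetherianRing A] (P : ChainComplex (ModuleCat.{u} A) ℤ)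
  [∀ i, Module.Finite A (P.X i)] [∀ i, Module.Flat A (P.X i)] (m : Ideal A) [m.IsMaximal]

omit [IsNoetherianRing A] in
theorem comap_residueField (x : PrimeSpectrum A) :
    PrimeSpectrum.comap (algebraMap A x.asIdeal.ResidueField) ⟨⊥, Ideal.isPrime_bot⟩ = x :=
  PrimeSpectrum.ext (RingHom.ker_eq_comap_bot _ |>.symm.trans (Ideal.ker_algebraMap_residueField x.asIdeal))

/-- Degree zero homology is corepresented by a cyclic module supported at the point. -/
theorem exists_cyclic (hpos : ∀ p : ℤ, 0 < p → ∀ M : ModuleCat.{u} A, Subsingleton (CohIII.T P p M))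
    (h : ∀ (x : PrimeSpectrum A), x.asIdeal ≠ m → CohIII.dRank P 0 x = 0)
    (hone : Nonempty (CohIII.T P 0 (ModuleCat.of A (A ⧸ m)) ≃ₗ[A] A ⧸ m)) :
    ∃ (I : Ideal A) (n : ℕ), m ^ n ≤ I ∧ I ≤ m ∧ ∀ (M : Type u) [AddCommGroup M] [Module A M],
      Nonempty (CohIII.T P 0 (ModuleCat.of A M) ≃ₗ[A] ((A ⧸ I) →ₗ[A] M)) := by
  classical
  haveI : ∀ i, Module.Projective A (P.X i) := fun i => by
    haveI := Module.finitePresentation_of_finite A (P.X i)
    exact Module.Flat.projective_of_finitePresentation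
  haveI : Module.Flat A (Cok P 0) := by
    refine (preservesEpi_iff P (show (0 : ℤ) + 1 = 1 by norm_num)).1 ⟨fun {_ N} g _ => ?_⟩
    haveI := hpos 1 one_pos N
    exact (ModuleCat.epi_iff_surjective _).2 fun y => ⟨0, (hpos 1 one_pos N).elim _ _⟩
  haveI := Module.finitePresentation_of_finite A (Cok P 0)
  haveI : Module.Projective A (Cok P 0) := Module.Flat.projective_of_finitePresentation
  let Q := corep P 0 (-1)
  have e : ∀ (M : Type u) [AddCommGroup M] [Module A M],
      CohIII.T P 0 (ModuleCat.of A M) ≃ₗ[A] (Q →ₗ[A] M) := fun M _ _ => corepEquiv P (by norm_num) M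
  haveI : Module.Finite A Q := inferInstance
  -- the support
  have hsupp : ∀ x : PrimeSpectrum A, x ∈ Module.support A Q → x.asIdeal = m := by
    intro x hx
    by_contra hne
    let K := x.asIdeal.ResidueField
    haveI : Subsingleton (CohIII.T P 0 (ModuleCat.of A K)) := by
      refine (CBC10.subsingleton_T_field_iff P K 0).2 ?_
      rw [comap_residueField]
      exact h x hne
    haveI : Subsingleton (Q →ₗ[A] K) := (e K).symm.toEquiv.subsingleton
    haveI := (Module.mem_support_iff_nontrivial_residueField_tensorProduct x).1 hx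
    obtain ⟨v, hv⟩ := exists_ne (0 : K ⊗[A] Q)
    obtain ⟨f, hf⟩ := Module.Projective.exists_dual_ne_zero K hv
    let g : Q →ₗ[A] K := (f.restrictScalars A) ∘ₗ TensorProduct.mk A K Q 1
    have hg : g = 0 := Subsingleton.elim _ _
    refine hf ?_
    clear hf hv
    induction v using TensorProduct.induction_on with
    | zero => exact map_zero f
    | tmul a q =>
      rw [show a ⊗ₜ[A] q = a • ((1 : K) ⊗ₜ[A] q) by rw [TensorProduct.smul_tmul', smul_eq_mul, mul_one], map_smul,
        show f ((1 : K) ⊗ₜ[A] q) = g q from rfl, hg, LinearMap.zero_apply, smul_zero]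
    | add a b ha hb => rw [map_add, ha, hb, add_zero]
  obtain ⟨e₁⟩ := hone
  let e₂ : (Q →ₗ[A] (A ⧸ m)) ≃ₗ[A] A ⧸ m := (e (A ⧸ m)).symm.trans e₁
  obtain ⟨f₀, hf₀⟩ : ∃ f : Q →ₗ[A] (A ⧸ m), e₂ f = Ideal.Quotient.mk m 1 := e₂.surjective _
  obtain ⟨q₀, hq₀⟩ : ∃ q, f₀ q ≠ 0 := by
    by_contra hc
    push Not at hc
    rw [show f₀ = 0 from LinearMap.ext hc, map_zero] at hf₀
    exact ‹m.IsMaximal›.ne_top ((Ideal.eq_top_iff_one _).2 (Ideal.Quotient.eq_zero_iff_mem.1 hf₀.symm))
  -- Nakayama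
  have hgen : Submodule.span A {q₀} = ⊤ := by
    by_contra hne
    obtain ⟨W, hW, hle⟩ := (eq_top_or_exists_le_coatom (Submodule.span A {q₀})).resolve_left hne
    haveI : IsSimpleModule A (Q ⧸ W) := isSimpleModule_iff_isCoatom.2 hW
    obtain ⟨m', hm', ⟨es⟩⟩ := isSimpleModule_iff_quot_maximal.1 (inferInstance : IsSimpleModule A (Q ⧸ W))
    have hmem : (⟨m', hm'.isPrime⟩ : PrimeSpectrum A) ∈ Module.support A Q := by
      refine Module.support_subset_of_surjective W.mkQ (Submodule.mkQ_surjective W) ?_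
      rw [es.support_eq, Module.support_eq_zeroLocus, Ideal.annihilator_quotient]
      exact (PrimeSpectrum.mem_zeroLocus _ _).2 subset_rfl
    obtain rfl := hsupp _ hmem
    let f : Q →ₗ[A] A ⧸ m' := es.toLinearMap ∘ₗ W.mkQ
    obtain ⟨r, hr⟩ := Ideal.Quotient.mk_surjective (e₂ f)
    have hf : f = r • f₀ := by
      refine e₂.injective ?_
      rw [map_smul, hf₀, ← hr]
      show _ = Ideal.Quotient.mk m' (r * 1)
      rw [mul_one]
    have h1 : r • f₀ q₀ = 0 := by
      rw [← LinearMap.smul_apply, ← hf]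
      show es (W.mkQ q₀) = 0
      rw [Submodule.mkQ_apply, (Submodule.Quotient.mk_eq_zero _).2 (hle (Submodule.mem_span_singleton_self _)), map_zero]
    obtain ⟨y, hy⟩ := Ideal.Quotient.mk_surjective (f₀ q₀)
    rw [← hy, show r • Ideal.Quotient.mk m' y = Ideal.Quotient.mk m' (r * y) from rfl,
      Ideal.Quotient.eq_zero_iff_mem] at h1
    rcases hm'.isPrime.mem_or_mem h1 with hrm | hym
    · have : Function.Surjective f := es.surjective.comp (Submodule.mkQ_surjective W)
      obtain ⟨q, hq⟩ := this (Ideal.Quotient.mk m' 1)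
      rw [hf, LinearMap.smul_apply] at hq
      obtain ⟨w, hw⟩ := Ideal.Quotient.mk_surjective (f₀ q)
      rw [← hw, show r • Ideal.Quotient.mk m' w = Ideal.Quotient.mk m' (r * w) from rfl, Ideal.Quotient.eq] at hq
      exact hm'.ne_top ((Ideal.eq_top_iff_one _).2 (by
        have := Ideal.sub_mem _ (Ideal.mul_mem_right w _ hrm) hq
        rwa [sub_sub_cancel] at this))
    · exact hq₀ (by rw [← hy]; exact Ideal.Quotient.eq_zero_iff_mem.2 hym)
  let eQ : (A ⧸ Ideal.torsionOf A Q q₀) ≃ₗ[A] Q :=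
    (Ideal.quotTorsionOfEquivSpanSingleton A Q q₀).trans ((LinearEquiv.ofEq _ _ hgen).trans Submodule.topEquiv)
  have hIm : Ideal.torsionOf A Q q₀ ≤ m := fun c hc => by
    obtain ⟨y, hy⟩ := Ideal.Quotient.mk_surjective (f₀ q₀)
    have h1 := congrArg f₀ ((Ideal.mem_torsionOf_iff q₀ c).1 hc)
    rw [map_smul, map_zero, ← hy, show c • Ideal.Quotient.mk m y = Ideal.Quotient.mk m (c * y) from rfl,
      Ideal.Quotient.eq_zero_iff_mem] at h1
    exact (‹m.IsMaximal›.isPrime.mem_or_mem h1).resolve_right fun hym =>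
      hq₀ (by rw [← hy]; exact Ideal.Quotient.eq_zero_iff_mem.2 hym)
  have hrad : m ≤ (Ideal.torsionOf A Q q₀).radical := by
    rw [Ideal.radical_eq_sInf]
    refine le_sInf fun p ⟨hp, hpp⟩ => ?_
    refine (hsupp ⟨p, hpp⟩ ?_).ge
    rw [← eQ.support_eq, Module.support_eq_zeroLocus, Ideal.annihilator_quotient]
    exact (PrimeSpectrum.mem_zeroLocus _ _).2 hp
  obtain ⟨n, hn⟩ := Ideal.exists_pow_le_of_le_radical_of_fg hrad (IsNoetherian.noetherian _)
  exact ⟨_, n, hn, hIm, fun M _ _ => ⟨(e M).trans (LinearEquiv.congrLeft M A eQ.symm)⟩⟩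

/-- The homology at the point. -/
theorem equiv_residue [IsRegularLocalRing (Localization.AtPrime m)] {g : ℕ}
    (hg : ringKrullDim (Localization.AtPrime m) = g)
    (hpos : ∀ p : ℤ, 0 < p → ∀ M : ModuleCat.{u} A, Subsingleton (CohIII.T P p M))
    (h : ∀ (q : ℤ) (x : PrimeSpectrum A), x.asIdeal ≠ m → CohIII.dRank P q x = 0)
    (hcorep : ∀ (M : Type u) [AddCommGroup M] [Module A M],
      Nonempty (CohIII.T P 0 (ModuleCat.of A M) ≃ₗ[A] ((A ⧸ m) →ₗ[A] M))) :
    (∀ p : ℤ, -(g : ℤ) < p → Subsingleton (FlatCxLib.H P p)) ∧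
      Nonempty (FlatCxLib.H P (-(g : ℤ)) ≃ₗ[A] A ⧸ m) := by
  refine ⟨fun p hp => subsingleton_H_of_point P hg hpos h hp, ?_⟩
  let L := Localization.AtPrime m
  haveI : Module.Flat A L := IsLocalization.flat L m.primeCompl
  have hfin : (maximalIdeal L).spanFinrank = g := by
    have := IsRegularLocalRing.spanFinrank_maximalIdeal (R := L)
    rw [hg] at this
    exact_mod_cast this
  have hkill : ∀ c ∈ m, ∀ q, ∀ t : FlatCxLib.H P q, ∃ n : ℕ, c ^ n • t = 0 := fun c hc q t =>
    exists_pow_smul_H P (fun r x hx => h r x fun e => hx (by rw [e]; exact hc)) q t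
  have hK : ∀ c ∈ m, ∀ q, Killed P c q L := by
    intro c hc q
    refine killed_of_T P fun t => ?_
    obtain ⟨w, rfl⟩ := (theta_bijective_of_flat P (p := q) L).2 t
    suffices ∃ n : ℕ, c ^ n • w = 0 by
      obtain ⟨n, hn⟩ := this
      exact ⟨n, by rw [← map_smul, hn, map_zero]⟩
    induction w using TensorProduct.induction_on with
    | zero => exact ⟨0, smul_zero _⟩
    | tmul t l =>
      obtain ⟨n, hn⟩ := hkill c hc q t
      exact ⟨n, by rw [TensorProduct.smul_tmul', hn, TensorProduct.zero_tmul]⟩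
    | add v w hv hw =>
      obtain ⟨n, hn⟩ := hv
      obtain ⟨n', hn'⟩ := hw
      exact ⟨n + n', by rw [smul_add, pow_add, mul_smul, mul_smul, hn', smul_comm, hn, smul_zero, smul_zero, add_zero]⟩
  have hsurj : Function.Surjective (fun x : A => Ideal.Quotient.mk (maximalIdeal L) (algebraMap A L x)) := by
    intro y
    obtain ⟨l, rfl⟩ := Ideal.Quotient.mk_surjective y
    obtain ⟨⟨a, s⟩, hs⟩ := IsLocalization.surj m.primeCompl l
    obtain ⟨z, i, hi, hz⟩ := ‹m.IsMaximal›.exists_inv s.2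
    refine ⟨a * z, Ideal.Quotient.eq.2 ?_⟩
    have h1 := congrArg (algebraMap A L) hz
    rw [map_add, map_mul, map_one] at h1
    rw [map_mul, ← hs, show l * algebraMap A L s * algebraMap A L z - l = -(l * algebraMap A L i) by
      linear_combination l * h1]
    exact neg_mem (Ideal.mul_mem_left _ _ ((IsLocalization.AtPrime.to_map_mem_maximal_iff L m i).2 hi))
  obtain ⟨-, ⟨eL⟩⟩ := regular_quotient P m (fun p hp M _ _ => exc_of_subsingleton P (hpos p hp _)) hcorep g L hfin
    (IsLocalization.AtPrime.map_eq_maximalIdeal m L) hsurj hK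
  let θ := LinearEquiv.ofBijective _ (theta_bijective_of_flat P (p := -(g : ℤ)) L)
  let ι : FlatCxLib.H P (-(g : ℤ)) →ₗ[A] L ⊗[A] FlatCxLib.H P (-(g : ℤ)) := TensorProduct.mk A L _ 1
  let φ : FlatCxLib.H P (-(g : ℤ)) →ₗ[A] A ⧸ m :=
    (eL.toLinearMap ∘ₗ θ.toLinearMap ∘ₗ (TensorProduct.comm A L _).toLinearMap) ∘ₗ ι
  have hker : ∀ t, φ t = 0 → t = 0 := by
    intro t ht
    have h0 : ι t = 0 := by
      rw [LinearMap.comp_apply] at ht
      exact (map_eq_zero_iff _ (eL.injective.comp (θ.injective.comp (TensorProduct.comm A L _).injective) : Function.Injective (eL.toLinearMap ∘ₗ θ.toLinearMap ∘ₗ (TensorProduct.comm A L (FlatCxLib.H P (-(g : ℤ)))).toLinearMap))).1 ht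
    obtain ⟨⟨s, hs⟩, hst⟩ := (IsLocalizedModule.eq_zero_iff m.primeCompl ι).1 h0
    by_contra hne
    have htop : Ideal.torsionOf A _ t ≠ ⊤ := fun h1 => hne (by
      have := (Ideal.eq_top_iff_one _).1 h1
      rwa [Ideal.mem_torsionOf_iff, one_smul] at this)
    obtain ⟨M', hM', hle⟩ := Ideal.exists_le_maximal _ htop
    have hmM : m ≤ M' := fun c hc => by
      obtain ⟨n, hn⟩ := hkill c hc _ t
      exact hM'.isPrime.mem_of_pow_mem n (hle hn)
    rw [← Ideal.IsMaximal.eq_of_le inferInstance hM'.ne_top hmM] at hle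
    exact hs (hle hst)
  obtain ⟨w, hw⟩ : ∃ w, φ w ≠ 0 := by
    by_contra hc
    push Not at hc
    haveI : Subsingleton (FlatCxLib.H P (-(g : ℤ))) := ⟨fun a b => (hker a (hc a)).trans (hker b (hc b)).symm⟩
    haveI : Subsingleton (L ⊗[A] FlatCxLib.H P (-(g : ℤ))) := ⟨fun a b => by
      suffices ∀ z : L ⊗[A] FlatCxLib.H P (-(g : ℤ)), z = 0 from (this a).trans (this b).symm
      intro z
      induction z using TensorProduct.induction_on with
      | zero => rfl
      | tmul l t => rw [Subsingleton.elim t 0, TensorProduct.tmul_zero]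
      | add a b ha hb => rw [ha, hb, add_zero]⟩
    haveI : Subsingleton (A ⧸ m) := ((TensorProduct.comm A L _).trans (θ.trans eL)).symm.toEquiv.subsingleton
    exact ‹m.IsMaximal›.ne_top ((Ideal.eq_top_iff_one _).2 (Ideal.Quotient.eq_zero_iff_mem.1 (Subsingleton.elim _ 0)))
  refine ⟨LinearEquiv.ofBijective φ ⟨(injective_iff_map_eq_zero φ).2 hker, fun y => ?_⟩⟩
  obtain ⟨a, ha⟩ := Ideal.Quotient.mk_surjective (φ w)
  obtain ⟨b, rfl⟩ := Ideal.Quotient.mk_surjective y
  have ha' : a ∉ m := fun h1 => hw (by rw [← ha]; exact Ideal.Quotient.eq_zero_iff_mem.2 h1)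
  obtain ⟨z, i, hi, hz⟩ := ‹m.IsMaximal›.exists_inv ha'
  refine ⟨(b * z) • w, ?_⟩
  rw [map_smul, ← ha]
  refine Ideal.Quotient.eq.2 ?_
  show b * z * a - b ∈ m
  rw [show b * z * a - b = -(b * i) by linear_combination b * hz]
  exact neg_mem (Ideal.mul_mem_left _ _ hi)

end Groth.Agent.Poincare22
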