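import Groth.Agent.Lib.Poincare22.Les
import Groth.Agent.Lib.RegLoc.Basic

/-!
# A complex whose degree zero homology is corepresented by the residue field
-/

universe u

open CategoryTheory CategoryTheory.Limits IsLocalRing
open scoped TensorProduct Pointwise

set_option linter.style.haveILetI false
set_option linter.unusedSectionVars false
set_option maxHeartbeats 1000000

noncomputable section

namespace Groth.Agent.Poincare22

open FlatCxLib Groth.Agent.Index22

variable {A : Type u} [CommRing A]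

/-- Elements killed by powers of the generators of a finitely generated ideal are killed by a power of it. -/
theorem exists_pow_smul_eq_zero {m : Ideal A} (hm : m.FG) {H : Type u} [AddCommGroup H] [Module A H] (t : H)
    (h : ∀ c ∈ m, ∃ n : ℕ, c ^ n • t = 0) : ∃ j : ℕ, ∀ c ∈ m ^ j, c • t = 0 := by
  have hle : m ≤ (Ideal.torsionOf A H t).radical := fun c hc => by
    obtain ⟨n, hn⟩ := h c hc
    exact ⟨n, hn⟩
  obtain ⟨j, hj⟩ := Ideal.exists_pow_le_of_le_radical_of_fg hle hm
  exact ⟨j, fun c hc => hj hc⟩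

/-- Killed by `m` as soon as the second socle equals the first. -/
theorem smul_eq_zero_of_second {m : Ideal A} (hm : m.FG) {H : Type u} [AddCommGroup H] [Module A H]
    (htors : ∀ t : H, ∀ c ∈ m, ∃ n : ℕ, c ^ n • t = 0)
    (h2 : ∀ s : H, (∀ c ∈ m, ∀ d ∈ m, d • c • s = 0) → ∀ c ∈ m, c • s = 0) (t : H) :
    ∀ c ∈ m, c • t = 0 := by
  obtain ⟨j, hj⟩ := exists_pow_smul_eq_zero hm t (htors t)
  induction j generalizing t with
  | zero =>
    intro c _
    have : (1 : A) • t = 0 := hj 1 (by simp)
    rw [one_smul] at this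
    rw [this, smul_zero]
  | succ j ih =>
    refine h2 t fun c hc d hd => ?_
    exact ih (c • t) (fun e he => by rw [smul_smul]; exact hj _ (by rw [pow_succ]; exact Ideal.mul_mem_mul he hc)) d hd

variable (P : ChainComplex (ModuleCat.{u} A) ℤ) [∀ i, Module.Flat A (P.X i)]

/-- Kernel of multiplication on coefficients. -/
theorem mem_ker_mulA (a : A) (p : ℤ) (M : Type u) [AddCommGroup M] [Module A M] (t : CohIII.T P p (ModuleCat.of A M)) :
    t ∈ LinearMap.ker (Tmap P p (mulA a M)) ↔ a • t = 0 := by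
  rw [LinearMap.mem_ker, mulA, Tmap_smul, Tmap_id]
  rfl

theorem exists_ker_mul (a : A) {M : Type u} [AddCommGroup M] [Module A M] (ha : IsSMulRegular M a) (p : ℤ)
    (h : Subsingleton (CohIII.T P (p + 1) (ModuleCat.of A M))) :
    Nonempty (CohIII.T P (p + 1) (ModuleCat.of A (QuotSMulTop a M)) ≃ₗ[A] LinearMap.ker (Tmap P p (mulA a M))) := by
  refine exists_ker_equiv P (mulA a M) (Submodule.mkQ _) ha (Submodule.mkQ_surjective _) ?_ p h
  intro m
  rw [Submodule.mkQ_apply, Submodule.Quotient.mk_eq_zero, Submodule.mem_smul_pointwise_iff_exists]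
  constructor
  · rintro ⟨y, -, rfl⟩
    exact ⟨y, rfl⟩
  · rintro ⟨y, rfl⟩
    exact ⟨y, trivial, rfl⟩

variable (m : Ideal A) [m.IsMaximal] [IsNoetherianRing A]
  (hpos : ∀ p : ℤ, 0 < p → ∀ (M : Type u) [AddCommGroup M] [Module A M], Exc P p M)
  (hcorep : ∀ (M : Type u) [AddCommGroup M] [Module A M],
    Nonempty (CohIII.T P 0 (ModuleCat.of A M) ≃ₗ[A] ((A ⧸ m) →ₗ[A] M)))

include hpos hcorep

omit [IsNoetherianRing A] in
/-- Degree zero homology is killed by `m`. -/
theorem smul_T0 (M : Type u) [AddCommGroup M] [Module A M] (t : CohIII.T P 0 (ModuleCat.of A M)) :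
    ∀ c ∈ m, c • t = 0 := fun c hc => by
  obtain ⟨e⟩ := hcorep M
  refine e.injective ?_
  rw [map_smul, map_zero]
  refine LinearMap.ext fun x => ?_
  rw [LinearMap.smul_apply, ← map_smul, LinearMap.zero_apply]
  obtain ⟨y, rfl⟩ := Ideal.Quotient.mk_surjective x
  rw [show c • Ideal.Quotient.mk m y = Ideal.Quotient.mk m (c * y) from rfl,
    Ideal.Quotient.eq_zero_iff_mem.2 (Ideal.mul_mem_right _ _ hc), map_zero]

/-- Homology with coefficients in a regular quotient. -/
theorem regular_quotient : ∀ (n : ℕ) (L : Type u) [CommRing L] [Algebra A L] [IsRegularLocalRing L],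
    (maximalIdeal L).spanFinrank = n → Ideal.map (algebraMap A L) m = maximalIdeal L →
    Function.Surjective (fun x : A => Ideal.Quotient.mk (maximalIdeal L) (algebraMap A L x)) →
    (∀ c ∈ m, ∀ q, Killed P c q L) →
    (∀ p : ℤ, -(n : ℤ) < p → Exc P p L) ∧
      Nonempty (CohIII.T P (-(n : ℤ)) (ModuleCat.of A L) ≃ₗ[A] A ⧸ m) := by
  intro n
  induction n with
  | zero =>
    intro L _ _ _ hn hmap hsurj _
    have hbot : maximalIdeal L = ⊥ :=
      isField_iff_maximalIdeal_eq.1 (RegLoc.spanFinrank_maximalIdeal_eq_zero_iff.1 hn)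
    let φ : (A ⧸ m) →ₗ[A] L := Submodule.liftQ m (Algebra.linearMap A L) fun c hc => by
      rw [LinearMap.mem_ker, Algebra.linearMap_apply]
      have := Ideal.mem_map_of_mem (algebraMap A L) hc
      rwa [hmap, hbot, Ideal.mem_bot] at this
    have hφ : Function.Surjective φ := fun y => by
      obtain ⟨x, hx⟩ := hsurj (Ideal.Quotient.mk _ y)
      refine ⟨Submodule.Quotient.mk x, ?_⟩
      have h0 := (Ideal.Quotient.eq).1 hx
      rw [hbot, Ideal.mem_bot, sub_eq_zero] at h0
      exact h0
    have hφi : Function.Injective φ := by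
      rw [injective_iff_map_eq_zero]
      intro x hx
      obtain ⟨y, rfl⟩ := Submodule.Quotient.mk_surjective m x
      rw [Submodule.Quotient.mk_eq_zero]
      by_contra hy
      obtain ⟨z, i, hi, hz⟩ := ‹m.IsMaximal›.exists_inv hy
      have h1 := congrArg (algebraMap A L) hz
      rw [map_add, map_mul, map_one, show algebraMap A L y = 0 from hx, mul_zero, zero_add] at h1
      have : algebraMap A L i ∈ maximalIdeal L := hmap ▸ Ideal.mem_map_of_mem _ hi
      rw [h1] at this
      exact (maximalIdeal.isMaximal L).ne_top ((Ideal.eq_top_iff_one _).2 this)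
    refine ⟨fun p hp => hpos p (by simpa using hp) L, ?_⟩
    obtain ⟨e⟩ := hcorep L
    let ev : ((A ⧸ m) →ₗ[A] (A ⧸ m)) ≃ₗ[A] (A ⧸ m) :=
      LinearEquiv.ofBijective (LinearMap.applyₗ (Ideal.Quotient.mk m 1)) ⟨fun f g h => by
        refine Submodule.linearMap_qext _ (LinearMap.ext_ring ?_)
        exact h, fun y => ⟨Submodule.liftQ m (LinearMap.toSpanSingleton A (A ⧸ m) y) fun c hc => by
          obtain ⟨z, rfl⟩ := Ideal.Quotient.mk_surjective y
          show c • Ideal.Quotient.mk m z = 0
          exact Ideal.Quotient.eq_zero_iff_mem.2 (Ideal.mul_mem_right _ _ hc), one_smul A y⟩⟩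
    exact ⟨(show CohIII.T P (-((0 : ℕ) : ℤ)) (ModuleCat.of A L) ≃ₗ[A] ((A ⧸ m) →ₗ[A] L) from e).trans
      ((LinearEquiv.congrRight (LinearEquiv.ofBijective φ ⟨hφi, hφ⟩).symm).trans ev)⟩
  | succ n ih =>
    intro L _ _ _ hn hmap hsurj hK
    haveI := RegLoc.isDomain L
    have hne : ¬ IsField L := fun h => by
      rw [RegLoc.spanFinrank_maximalIdeal_eq_zero_iff.2 h] at hn
      omega
    obtain ⟨a, ha, ha2⟩ : ∃ a ∈ m, algebraMap A L a ∉ maximalIdeal L ^ 2 := by
      by_contra h
      push Not at h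
      refine hne (isField_iff_maximalIdeal_eq.2 ?_)
      refine Submodule.eq_bot_of_le_smul_of_le_jacobson_bot (maximalIdeal L) _ (IsNoetherian.noetherian _) ?_
        (maximalIdeal_le_jacobson _)
      rw [smul_eq_mul, ← pow_two]
      exact hmap.ge.trans (Ideal.map_le_iff_le_comap.2 h)
    have step : ∀ a ∈ m, algebraMap A L a ∉ maximalIdeal L ^ 2 →
        (∀ p : ℤ, -((n + 1 : ℕ) : ℤ) < p → Exc P p L) ∧ IsSMulRegular L a ∧
          Nonempty (LinearMap.ker (Tmap P (-((n + 1 : ℕ) : ℤ)) (mulA a L)) ≃ₗ[A] A ⧸ m) := by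
      intro a ha ha2
      have hx : algebraMap A L a ∈ maximalIdeal L := hmap ▸ Ideal.mem_map_of_mem _ ha
      have hx0 : algebraMap A L a ≠ 0 := fun h => ha2 (h ▸ Submodule.zero_mem _)
      have hreg : IsSMulRegular L a := fun x y hxy => by
        simp only [Algebra.smul_def] at hxy
        exact mul_left_cancel₀ hx0 hxy
      obtain ⟨hL'', hdim⟩ := RegLoc.quotient_span_singleton hx ha2
      haveI := hL''
      let mk : L →ₐ[A] L ⧸ Ideal.span {algebraMap A L a} := Ideal.Quotient.mkₐ A _
      have hmax : (maximalIdeal L).map (Ideal.Quotient.mk (Ideal.span {algebraMap A L a})) =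
          maximalIdeal (L ⧸ Ideal.span {algebraMap A L a}) :=
        (RegLoc.maximalIdeal_quotient).symm
      let ε : QuotSMulTop a L ≃ₗ[A] L ⧸ Ideal.span {algebraMap A L a} :=
        (Submodule.quotEquivOfEq _ (LinearMap.ker mk.toLinearMap) (by
          ext y
          rw [Submodule.mem_smul_pointwise_iff_exists, LinearMap.mem_ker]
          show _ ↔ Ideal.Quotient.mk _ y = 0
          rw [Ideal.Quotient.eq_zero_iff_mem, Ideal.mem_span_singleton']
          simp only [Submodule.mem_top, true_and, Algebra.smul_def, mul_comm]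
          )).trans (mk.toLinearMap.quotKerEquivOfSurjective Ideal.Quotient.mk_surjective)
      have hKq : ∀ c ∈ m, ∀ q, Killed P c q (QuotSMulTop a L) := fun c hc q =>
        killed_quot P a hreg (hK c hc q) (hK c hc (q - 1))
      obtain ⟨hexc, ⟨e1⟩⟩ := ih (L ⧸ Ideal.span {algebraMap A L a}) (by omega)
        (by rw [← hmax, ← hmap, Ideal.map_map]; rfl)
        (fun y => by
          obtain ⟨y', rfl⟩ := Ideal.Quotient.mk_surjective y
          obtain ⟨z, rfl⟩ := Ideal.Quotient.mk_surjective y'
          obtain ⟨x, hx'⟩ := hsurj (Ideal.Quotient.mk _ z)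
          refine ⟨x, Ideal.Quotient.eq.2 ?_⟩
          rw [← hmax]
          exact Ideal.mem_map_of_mem _ (Ideal.Quotient.eq.1 hx'))
        (fun c hc q => killed_congr P ε (hKq c hc q))
      have hexL : ∀ p : ℤ, -((n + 1 : ℕ) : ℤ) < p → Exc P p L := fun p hp =>
        exc_of_quot P a hreg (exc_congr P ε.symm (hexc (p + 1) (by push_cast at hp; omega))) (hK a ha p)
      refine ⟨hexL, hreg, ?_⟩
      obtain ⟨e2⟩ := exists_ker_mul P a hreg (-((n + 1 : ℕ) : ℤ))
        (subsingleton_of_exc P (hexL _ (by omega)))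
      have hidx : -((n + 1 : ℕ) : ℤ) + 1 = -(n : ℤ) := by push_cast; omega
      rw [hidx] at e2
      obtain ⟨e3⟩ := nonempty_congr P ε (-(n : ℤ))
      exact ⟨e2.symm.trans (e3.trans e1)⟩
    obtain ⟨hexc, -, ⟨e₀⟩⟩ := step a ha ha2
    set H := CohIII.T P (-((n + 1 : ℕ) : ℤ)) (ModuleCat.of A L) with hH
    have hsimple : ∀ a ∈ m, algebraMap A L a ∉ maximalIdeal L ^ 2 → ∀ t : H, a • t = 0 → ∀ c ∈ m, c • t = 0 := by
      intro a ha ha2 t ht c hc
      obtain ⟨-, -, ⟨e⟩⟩ := step a ha ha2
      let t' : LinearMap.ker (Tmap P (-((n + 1 : ℕ) : ℤ)) (mulA a L)) := ⟨t, (mem_ker_mulA P a _ L t).2 ht⟩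
      have h0 : c • t' = 0 := by
        refine e.injective ?_
        rw [map_smul, map_zero]
        obtain ⟨y, hy⟩ := Ideal.Quotient.mk_surjective (e t')
        rw [← hy]
        exact Ideal.Quotient.eq_zero_iff_mem.2 (Ideal.mul_mem_right _ _ hc)
      exact congrArg Subtype.val h0
    have hkill : ∀ t : H, ∀ c ∈ m, c • t = 0 := by
      refine smul_eq_zero_of_second (IsNoetherian.noetherian m)
        (fun t c hc => exists_pow_smul_of_killed P (hK c hc _) t) fun s hs => ?_
      rcases Nat.eq_zero_or_pos n with rfl | hn0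
      · -- the one dimensional case
        obtain ⟨-, hreg, -⟩ := step a ha ha2
        have hreg2 : IsSMulRegular L (a * a) := hreg.mul hreg
        obtain ⟨e⟩ := exists_ker_mul P (a * a) hreg2 (-((0 + 1 : ℕ) : ℤ)) (subsingleton_of_exc P (hexc _ (by omega)))
        let s' : LinearMap.ker (Tmap P (-((0 + 1 : ℕ) : ℤ)) (mulA (a * a) L)) :=
          ⟨s, (mem_ker_mulA P (a * a) _ L s).2 (by rw [mul_smul]; exact hs a ha a ha)⟩
        have h0 : a • s' = 0 := by
          refine e.symm.injective ?_
          rw [map_smul, map_zero]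
          exact smul_T0 P m hpos hcorep (QuotSMulTop (a * a) L) _ a ha
        exact fun c hc => hsimple a ha ha2 s (congrArg Subtype.val h0) c hc
      · by_cases has : a • s = 0
        · exact hsimple a ha ha2 s has
        let k₀ := LinearMap.ker (Tmap P (-((n + 1 : ℕ) : ℤ)) (mulA a L))
        have hmem : ∀ c ∈ m, c • s ∈ k₀ := fun c hc => (mem_ker_mulA P a _ L _).2 (hs c hc a ha)
        let σ : k₀ := ⟨a • s, hmem a ha⟩
        have hσ : e₀ σ ≠ 0 := fun h => has (congrArg Subtype.val ((map_eq_zero_iff _ e₀.injective).1 h))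
        by_contra hcon
        have hle : Ideal.map (algebraMap A L) m ≤ Ideal.span {algebraMap A L a} ⊔ maximalIdeal L ^ 2 := by
          refine Ideal.map_le_iff_le_comap.2 fun c hc => ?_
          obtain ⟨r, hr⟩ : ∃ r : A, r • e₀ σ = e₀ ⟨c • s, hmem c hc⟩ := by
            obtain ⟨u, hu⟩ := Ideal.Quotient.mk_surjective (e₀ σ)
            obtain ⟨v, hv⟩ := Ideal.Quotient.mk_surjective (e₀ ⟨c • s, hmem c hc⟩)
            have hu' : u ∉ m := fun h => hσ (by rw [← hu]; exact Ideal.Quotient.eq_zero_iff_mem.2 h)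
            obtain ⟨z, i, hi, hz⟩ := ‹m.IsMaximal›.exists_inv hu'
            refine ⟨v * z, ?_⟩
            rw [← hu, ← hv]
            show Ideal.Quotient.mk m (v * z * u) = _
            refine Ideal.Quotient.eq.2 ?_
            rw [show v * z * u - v = -(v * i) by linear_combination v * hz]
            exact neg_mem (Ideal.mul_mem_left _ _ hi)
          have h1 : (c - r * a) • s = 0 := by
            rw [← map_smul] at hr
            have h2 : r • (a • s) = c • s := congrArg Subtype.val (e₀.injective hr)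
            rw [sub_smul, mul_smul, h2, sub_self]
          have h3 : algebraMap A L (c - r * a) ∈ maximalIdeal L ^ 2 := by
            by_contra h4
            exact hcon (hsimple _ (Ideal.sub_mem _ hc (Ideal.mul_mem_left _ _ ha)) h4 s h1)
          rw [Ideal.mem_comap, show c = r * a + (c - r * a) by ring, map_add, map_mul]
          exact Ideal.add_mem _ (Ideal.mem_sup_left (Ideal.mul_mem_left _ _ (Ideal.mem_span_singleton_self _)))
            (Ideal.mem_sup_right h3)
        rw [hmap, pow_two, ← smul_eq_mul] at hle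
        have h5 : maximalIdeal L ≤ Ideal.span {algebraMap A L a} :=
          Submodule.le_of_le_smul_of_le_jacobson_bot (IsNoetherian.noetherian _) (maximalIdeal_le_jacobson _) hle
        have h6 : maximalIdeal L = Ideal.span {algebraMap A L a} := le_antisymm h5
          ((Ideal.span_singleton_le_iff_mem _).2 (hmap ▸ Ideal.mem_map_of_mem _ ha))
        have h7 : (maximalIdeal L).spanFinrank ≤ 1 := by
          rw [h6]
          exact (Submodule.spanFinrank_span_le_ncard_of_finite (Set.finite_singleton _)).trans (Set.ncard_singleton _).le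
        omega
    refine ⟨hexc, ⟨?_⟩⟩
    have htop : LinearMap.ker (Tmap P (-((n + 1 : ℕ) : ℤ)) (mulA a L)) = ⊤ :=
      Submodule.eq_top_iff'.2 fun t => (mem_ker_mulA P a _ L t).2 (hkill t a ha)
    exact ((LinearEquiv.ofEq _ _ htop).trans Submodule.topEquiv).symm.trans e₀

end Groth.Agent.Poincare22
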